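import Groth.Agent.Lib.Disc25.NormalScheme
import Mathlib.AlgebraicGeometry.Properties
import Mathlib.AlgebraicGeometry.Morphisms.Preimmersion
import Mathlib.RingTheory.DiscreteValuationRing.Basic

/-!
The generic point: fraction fields of discrete valuation rings, and generic fibres of connected covers.
-/

set_option autoImplicit false
set_option linter.style.haveILetI false
set_option backward.isDefEq.respectTransparency false

universe u

open CategoryTheory CategoryTheory.Limits AlgebraicGeometry

namespace Groth.Agent.RootExt25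

section DVR

variable (R K : Type u) [CommRing R] [IsDomain R] [IsDiscreteValuationRing R] [Field K] [Algebra R K]
  [IsFractionRing R K]

theorem isLocalizationAway_fractionRing (ϖ : R) (hϖ : Irreducible ϖ) : IsLocalization.Away ϖ K := by
  refine (IsLocalization.iff_of_le_of_exists_dvd (Submonoid.powers ϖ) (nonZeroDivisors R) ?_ ?_).2
    inferInstance
  · exact Submonoid.powers_le.2 (mem_nonZeroDivisors_of_ne_zero hϖ.ne_zero)
  · intro a ha
    obtain ⟨k, hk⟩ := IsDiscreteValuationRing.associated_pow_irreducible (nonZeroDivisors.ne_zero ha) hϖ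
    exact ⟨ϖ ^ k, ⟨k, rfl⟩, hk.dvd⟩

theorem isOpenImmersion_specMap_fractionRing :
    IsOpenImmersion (Spec.map (CommRingCat.ofHom (algebraMap R K))) := by
  obtain ⟨ϖ, hϖ⟩ := IsDiscreteValuationRing.exists_irreducible R
  haveI := isLocalizationAway_fractionRing R K ϖ hϖ
  exact IsOpenImmersion.of_isLocalization ϖ

theorem mem_range_specMap_fractionRing (q : Spec (CommRingCat.of R)) :
    q ∈ Set.range (Spec.map (CommRingCat.ofHom (algebraMap R K))) ↔ q ≠ IsLocalRing.closedPoint R := by
  constructor
  · rintro ⟨z, rfl⟩ h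
    have h1 : Ideal.comap (algebraMap R K) (z : PrimeSpectrum K).asIdeal = IsLocalRing.maximalIdeal R :=
      congrArg PrimeSpectrum.asIdeal h
    rw [(Ideal.eq_bot_or_top (z : PrimeSpectrum K).asIdeal).resolve_right (z : PrimeSpectrum K).isPrime.ne_top,
      Ideal.comap_bot_of_injective _ (IsFractionRing.injective R K)] at h1
    exact IsDiscreteValuationRing.not_a_field R h1.symm
  · intro h
    have h0 : (q : PrimeSpectrum R).asIdeal = ⊥ := by
      by_contra hne
      exact h (PrimeSpectrum.ext (IsLocalRing.eq_maximalIdeal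
        (Ideal.IsPrime.isMaximal (q : PrimeSpectrum R).isPrime hne)))
    refine ⟨(⊥ : PrimeSpectrum K), PrimeSpectrum.ext ?_⟩
    show Ideal.comap (algebraMap R K) (⊥ : PrimeSpectrum K).asIdeal = _
    rw [h0, PrimeSpectrum.asIdeal_bot, Ideal.comap_bot_of_injective _ (IsFractionRing.injective R K)]

end DVR

/-- Schemes finite over a field have no nontrivial specialisations. -/
theorem eq_of_specializes_of_finite_field {K : Type u} [Field K] {P : Scheme.{u}}
    (h : P ⟶ Spec (CommRingCat.of K)) [IsFinite h] {a b : P} (hab : a ⤳ b) : a = b := by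
  haveI : IsAffine P := isAffine_of_isAffineHom h
  let ψ : CommRingCat.of K ⟶ Γ(P, ⊤) := Spec.preimage (P.isoSpec.inv ≫ h)
  letI : Algebra K Γ(P, ⊤) := ψ.hom.toAlgebra
  haveI : IsFinite (Spec.map ψ) := by rw [Spec.map_preimage]; infer_instance
  haveI : Module.Finite K Γ(P, ⊤) := (IsFinite.SpecMap_iff ψ).1 inferInstance
  haveI : IsArtinianRing Γ(P, ⊤) := IsArtinianRing.of_finite K _
  haveI : DiscreteTopology P :=
    haveI : DiscreteTopology (Spec Γ(P, ⊤)) := inferInstanceAs (DiscreteTopology (PrimeSpectrum _))
    P.isoSpec.hom.homeomorph.symm.discreteTopology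
  exact hab.eq

/-- A connected finite étale cover of an integral normal scheme has exactly one point in its generic fibre. -/
theorem generic_fibre_single {T : Scheme.{u}} [IsIntegral T] (hT : Pi1.IsNormalScheme T) (Xt : FEt.Cat T)
    [ConnectedSpace ↥Xt.left] {K : Type u} [Field K] (g : Spec (CommRingCat.of K) ⟶ T) [IsPreimmersion g]
    (hg : genericPoint T ∈ Set.range g) :
    Subsingleton ↥((FEt.restrict g).obj Xt).left ∧ Nonempty ↥((FEt.restrict g).obj Xt).left := by
  let h : Xt.left ⟶ T := Xt.hom
  haveI : IsFinite h := Xt.prop.1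
  haveI : Etale h := Xt.prop.2
  have hZ : ∀ z : Xt.left, IsDomain (Xt.left.presheaf.stalk z) := fun z =>
    (Disc25.isNormalScheme_of_finite_etale h hT z).1
  have hmem : ∀ z : Xt.left, Disc25.gen hZ z ∈ Set.range (pullback.fst h g) := fun z => by
    rw [Scheme.Pullback.range_fst, Set.mem_preimage, Disc25.map_gen hZ h]
    exact hg
  refine ⟨⟨fun (a : ↥(pullback h g)) (b : ↥(pullback h g)) => ?_⟩, ?_⟩
  · have key : ∀ p : ↥(pullback h g), Disc25.gen hZ (pullback.fst h g p) = pullback.fst h g p := fun p => by
      obtain ⟨p', hp'⟩ := hmem (pullback.fst h g p)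
      have hs : p' ⤳ p := (pullback.fst h g).isEmbedding.isInducing.specializes_iff.1
        (hp'.symm ▸ Disc25.gen_specializes hZ _)
      haveI : IsFinite (pullback.snd h g) := MorphismProperty.pullback_snd h g inferInstance
      have hpp : p' = p := eq_of_specializes_of_finite_field (pullback.snd h g) hs
      rw [← hp', hpp]
    have hu : {z | Disc25.gen hZ z ∈ ({pullback.fst h g a} : Set Xt.left)} = Set.univ :=
      (Disc25.isClopen_preimage_gen hZ h _).eq_univ ⟨pullback.fst h g a, key a⟩
    have hb : Disc25.gen hZ (pullback.fst h g b) = pullback.fst h g a := Set.eq_univ_iff_forall.1 hu _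
    exact (pullback.fst h g).isEmbedding.injective (hb.symm.trans (key b))
  · obtain ⟨p, -⟩ := hmem (Classical.arbitrary ↥Xt.left)
    exact ⟨p⟩

end Groth.Agent.RootExt25
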