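import Groth.Agent.Lib.Disc25.NormalScheme
import Groth.Agent.Lib.FEtEq25.Graph
import Groth.Agent.Lib.PurityExt25.Main
import Mathlib.AlgebraicGeometry.Noetherian

/-!
Full faithfulness of restriction to dense opens of normal locally Noetherian schemes, and extension of covers
over opens whose complement has pure or locally extendable points.
-/

set_option autoImplicit false
set_option linter.style.haveILetI false
set_option backward.isDefEq.respectTransparency false

universe u

open CategoryTheory CategoryTheory.Limits AlgebraicGeometry TopologicalSpace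

namespace Groth.Agent.RootExt25

open Groth.Agent.Disc25

variable {Z : Scheme.{u}}

/-- In a locally Noetherian scheme whose local rings are domains, the maximal generalization is locally constant. -/
theorem isOpen_preimage_gen [IsLocallyNoetherian Z] (hZ : ∀ z : Z, IsDomain (Z.presheaf.stalk z)) (T : Set Z) :
    IsOpen {z | gen hZ z ∈ T} := by
  refine isOpen_iff_forall_mem_open.2 fun z hz => ?_
  obtain ⟨W, hW, hzW, -⟩ := exists_isAffineOpen_mem_and_subset (X := Z) (x := z) (U := ⊤) trivial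
  haveI : IsNoetherianRing Γ(Z, W) := IsLocallyNoetherian.component_noetherian ⟨W, hW⟩
  haveI : NoetherianSpace (W : Scheme.{u}) := noetherianSpace_of_isAffineOpen W hW
  let M : Set Z := {μ | μ ∈ W ∧ gen hZ μ = μ}
  have hfin : M.Finite := by
    haveI : Finite (irreducibleComponents ↥(W : Scheme.{u})) :=
      NoetherianSpace.finite_irreducibleComponents.to_subtype
    refine Set.finite_coe_iff.1 (Finite.of_injective (fun μ : M =>
      (⟨closure {(⟨μ.1, μ.2.1⟩ : (W : Scheme.{u}))}, ?_⟩ : irreducibleComponents ↥(W : Scheme.{u}))) ?_)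
    · refine ⟨isIrreducible_singleton.closure, fun Y hY hle => ?_⟩
      have hg := hY.isGenericPoint_genericPoint_closure
      set g := hY.genericPoint
      have hμcl : (⟨μ.1, μ.2.1⟩ : (W : Scheme.{u})) ∈ closure Y := subset_closure (hle (subset_closure rfl))
      have h1 : g ⤳ (⟨μ.1, μ.2.1⟩ : (W : Scheme.{u})) := hg.specializes hμcl
      have h2 : (W.ι g : Z) = μ.1 := by
        have h3 : W.ι g ⤳ μ.1 := h1.map W.ι.continuous
        exact (h3.antisymm (μ.2.2 ▸ gen_specializes_of_specializes hZ h3)).eq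
      have h4 : g = (⟨μ.1, μ.2.1⟩ : (W : Scheme.{u})) := W.ι.isOpenEmbedding.injective h2
      exact subset_closure.trans (h4 ▸ hg.def).ge
    · intro μ ν h
      have he : closure {(⟨μ.1, μ.2.1⟩ : (W : Scheme.{u}))} = closure {(⟨ν.1, ν.2.1⟩ : (W : Scheme.{u}))} :=
        congrArg Subtype.val h
      have h1 : (⟨μ.1, μ.2.1⟩ : (W : Scheme.{u})) ⤳ ⟨ν.1, ν.2.1⟩ := by
        rw [specializes_iff_mem_closure, he]
        exact subset_closure rfl
      have h2 : μ.1 ⤳ ν.1 := h1.map W.ι.continuous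
      exact Subtype.ext (μ.2.2.symm.trans ((gen_eq_of_specializes hZ h2).trans ν.2.2))
  let N : Set Z := (W : Set Z) \ ⋃ μ ∈ M \ {gen hZ z}, closure {μ}
  have hgen : ∀ y : Z, y ∈ W → gen hZ y ∈ M := fun y hy =>
    ⟨(gen_specializes hZ y).mem_open W.2 hy, gen_eq_of_specializes hZ (gen_specializes hZ y)⟩
  refine ⟨N, fun y hy => ?_, W.2.sdiff ((hfin.subset Set.sdiff_subset).isClosed_biUnion fun _ _ => isClosed_closure),
    ⟨hzW, fun hz' => ?_⟩⟩
  · have : gen hZ y = gen hZ z := by
      by_contra hne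
      exact hy.2 (Set.mem_biUnion ⟨hgen y hy.1, hne⟩ (gen_specializes hZ y).mem_closure)
    show gen hZ y ∈ T
    rw [this]
    exact hz
  · obtain ⟨μ, ⟨hμ, hμz⟩, hzμ⟩ := Set.mem_iUnion₂.1 hz'
    exact hμz (by rw [← hμ.2, gen_eq_of_specializes hZ (specializes_iff_mem_closure.2 hzμ)]; rfl)

/-- Restriction to an open containing all maximal points of a normal locally Noetherian scheme is fully
faithful. -/
theorem fullyFaithful_restrict_of_normal {X : Scheme.{u}} [IsLocallyNoetherian X] (hX : Pi1.IsNormalScheme X)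
    (U : X.Opens) (hU : ∀ x : X, gen (fun z => (hX z).1) x ∈ U) :
    (FEt.restrict U.ι).Full ∧ (FEt.restrict U.ι).Faithful := by
  have hT : ∀ S : Set X, IsClopen S → S.Nonempty → (S ∩ Set.range U.ι).Nonempty := by
    rintro S hS ⟨x, hx⟩
    refine ⟨gen (fun z => (hX z).1) x, (gen_specializes _ x).mem_open hS.2 hx, ?_⟩
    rw [Scheme.Opens.range_ι]
    exact hU x
  refine ⟨FEtEq25.full_restrict _ hT ?_, FEtEq25.faithful_restrict _ hT⟩
  intro Z h hh C hC
  haveI : IsFinite h := hh.1
  haveI : Etale h := hh.2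
  haveI : IsLocallyNoetherian Z := LocallyOfFiniteType.isLocallyNoetherian h
  have hZ : ∀ z : Z, IsDomain (Z.presheaf.stalk z) := fun z => (isNormalScheme_of_finite_etale h hX z).1
  haveI : IsOpenImmersion (pullback.fst h U.ι) := MorphismProperty.pullback_fst h U.ι inferInstance
  let f := pullback.fst h U.ι
  refine ⟨{z | gen hZ z ∈ f '' C}, ⟨?_, isOpen_preimage_gen hZ _⟩, ?_⟩
  · exact isOpen_compl_iff.1 (isOpen_preimage_gen hZ (f '' C)ᶜ)
  · ext p
    have hmem : gen hZ (f p) ∈ Set.range f := by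
      rw [Scheme.Pullback.range_fst, Set.mem_preimage, Scheme.Opens.range_ι]
      have hp : h (f p) ∈ Set.range U.ι := ⟨pullback.snd h U.ι p, by
        rw [← Scheme.Hom.comp_apply, ← pullback.condition, Scheme.Hom.comp_apply]⟩
      obtain ⟨y, hy, hgy⟩ := Flat.generalizingMap h (gen_specializes (fun z => (hX z).1) (h (gen hZ (f p))))
      rw [← eq_gen_of_specializes hZ hy, hgy]
      exact hU _
    obtain ⟨p', hp'⟩ := hmem
    have hs : p' ⤳ p := f.isEmbedding.isInducing.specializes_iff.1 (hp'.symm ▸ gen_specializes hZ _)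
    constructor
    · rintro ⟨c, hc, hce⟩
      have : c = p' := f.isEmbedding.injective (hce.trans hp'.symm)
      exact hs.mem_closed hC.1 (this ▸ hc)
    · intro hp
      exact ⟨p', hs.mem_open hC.2 hp, hp'⟩

open Groth.Agent.PurityExt25 in
/-- A cover of an open extends when at each point of the complement purity holds or the point is maximal in the
complement and the cover extends over its local scheme. -/
theorem exists_extension_of_local {X : Scheme.{u}} [IsNoetherian X] (U : X.Opens) (W : FEt.Cat (U : Scheme.{u}))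
    (hP : ∀ x : X, x ∉ U → FEt.PurityHolds (X.presheaf.stalk x) ∨
      ∀ (ρ : (FEt.puncturedSpec (X.presheaf.stalk x) : Scheme.{u}) ⟶ (U : Scheme.{u})),
        ρ ≫ U.ι = (FEt.puncturedSpec (X.presheaf.stalk x)).ι ≫ X.fromSpecStalk x →
        ∃ C : FEt.Cat (Spec (X.presheaf.stalk x)), Nonempty
          ((FEt.restrict (FEt.puncturedSpec (X.presheaf.stalk x)).ι).obj C ≅ (FEt.restrict ρ).obj W))
    (hgenU : ∀ x : X, x ∉ U → ¬ FEt.PurityHolds (X.presheaf.stalk x) → ∀ y : X, y ⤳ x → y ≠ x → y ∈ U) :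
    ∃ Y : FEt.Cat X, Nonempty ((FEt.restrict U.ι).obj Y ≅ W) := by
  let w : W.left ⟶ (U : Scheme.{u}) := W.hom
  haveI : IsFinite w := W.prop.1
  haveI : Etale w := W.prop.2
  let S : Set X.Opens := {G | ∃ (hle : U ≤ G) (E : Scheme.{u}) (h : E ⟶ (G : Scheme.{u})) (t : W.left ⟶ E),
    IsFinite h ∧ Etale h ∧ IsPullback t w h (X.homOfLE hle)}
  have hne : S.Nonempty := ⟨U, le_rfl, W.left, w, 𝟙 W.left, inferInstance, inferInstance, by
    rw [Scheme.homOfLE_rfl]
    exact IsPullback.of_horiz_isIso ⟨by simp⟩⟩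
  obtain ⟨G, ⟨hle, E, e, t, he1, he2, het⟩, hmax⟩ := (wellFounded_gt (α := X.Opens)).has_min S hne
  haveI := he1; haveI := he2
  by_cases hG : G = ⊤
  · haveI : IsIso G.ι := by
      rw [hG]
      exact inferInstanceAs (IsIso X.topIso.hom)
    have h1 := het.paste_vert (IsPullback.of_vert_isIso
      (fst := X.homOfLE hle) (snd := 𝟙 (U : Scheme.{u})) (f := G.ι) (g := U.ι) ⟨by simp⟩)
    rw [Category.comp_id] at h1
    refine ⟨MorphismProperty.Over.mk ⊤ (e ≫ G.ι) ⟨inferInstance, inferInstance⟩,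
      ⟨MorphismProperty.Over.isoMk h1.isoPullback.symm ?_⟩⟩
    rw [Iso.symm_hom]
    exact h1.isoPullback_inv_snd
  exfalso
  obtain ⟨y, hy⟩ : ∃ y : X, y ∉ G := by
    by_contra hcon
    push Not at hcon
    exact hG (eq_top_iff.2 fun y _ => hcon y)
  let Cc : Set X := (G : Set X)ᶜ
  have hC : IsClosed Cc := G.2.isClosed_compl
  haveI : QuasiSober Cc := hC.isClosedEmbedding_subtypeVal.quasiSober
  let y' : Cc := ⟨y, hy⟩
  let η := (isIrreducible_irreducibleComponent (x := y')).genericPoint
  have hgp : IsGenericPoint η (irreducibleComponent y') := by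
    have := (isIrreducible_irreducibleComponent (x := y')).isGenericPoint_genericPoint_closure
    rwa [isClosed_irreducibleComponent.closure_eq] at this
  have hηG : (η : X) ∉ G := η.2
  have hgen : ∀ z : X, z ⤳ η.1 → z ≠ η.1 → z ∈ G := by
    intro z hz hne'
    by_contra hzG
    let z' : Cc := ⟨z, hzG⟩
    have hz' : z' ⤳ η := (Topology.IsInducing.subtypeVal.specializes_iff).1 hz
    have hsub : irreducibleComponent y' ⊆ closure {z'} := by
      rw [← hgp.def]
      exact specializes_iff_closure_subset.1 hz'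
    have heq : closure {z'} = irreducibleComponent y' :=
      eq_irreducibleComponent isIrreducible_singleton.closure.isPreirreducible hsub
    have hz'' : η ⤳ z' := specializes_iff_closure_subset.2 (by rw [hgp.def, heq])
    have hback : η.1 ⤳ z := (Topology.IsInducing.subtypeVal.specializes_iff).2 hz''
    exact hne' ((hz.antisymm hback).eq)
  have hηU : (η : X) ∉ U := fun h => hηG (hle h)
  have hstep : ∀ (ρ : (FEt.puncturedSpec (X.presheaf.stalk η.1) : Scheme.{u}) ⟶ (G : Scheme.{u})),
      ρ ≫ G.ι = (FEt.puncturedSpec (X.presheaf.stalk η.1)).ι ≫ X.fromSpecStalk η.1 →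
      ∃ C : FEt.Cat (Spec (X.presheaf.stalk η.1)), Nonempty
        ((FEt.restrict (FEt.puncturedSpec (X.presheaf.stalk η.1)).ι).obj C ≅
          (FEt.restrict ρ).obj (MorphismProperty.Over.mk ⊤ e ⟨inferInstance, inferInstance⟩)) := by
    intro ρ hρ
    by_cases hpur : FEt.PurityHolds (X.presheaf.stalk η.1)
    · haveI : (FEt.restrict (FEt.puncturedSpec (X.presheaf.stalk η.1)).ι).EssSurj := hpur
      exact ⟨_, ⟨(FEt.restrict (FEt.puncturedSpec (X.presheaf.stalk η.1)).ι).objObjPreimageIso _⟩⟩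
    let P₀ := FEt.puncturedSpec (X.presheaf.stalk η.1)
    have hr : Set.range (P₀.ι ≫ X.fromSpecStalk η.1) ⊆ Set.range U.ι := by
      rintro _ ⟨q, rfl⟩
      rw [Scheme.Opens.range_ι]
      refine hgenU η.1 hηU hpur _ ?_ fun h => ?_
      · have hm : X.fromSpecStalk η.1 (P₀.ι q) ∈ Set.range (X.fromSpecStalk η.1) := ⟨_, rfl⟩
        rw [Scheme.range_fromSpecStalk] at hm
        exact hm
      · rw [Scheme.Hom.comp_apply] at h
        exact q.2 ((X.fromSpecStalk η.1).isEmbedding.injective (h.trans Scheme.fromSpecStalk_closedPoint.symm))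
    let ρU : (P₀ : Scheme.{u}) ⟶ U := IsOpenImmersion.lift U.ι _ hr
    have hρU : ρU ≫ U.ι = P₀.ι ≫ X.fromSpecStalk η.1 := IsOpenImmersion.lift_fac _ _ _
    have hρρ : ρU ≫ X.homOfLE hle = ρ := by
      rw [← cancel_mono G.ι, Category.assoc, Scheme.homOfLE_ι, hρU, hρ]
    obtain ⟨C, ⟨eC⟩⟩ := ((hP η.1 hηU).resolve_left hpur) ρU hρU
    refine ⟨C, ⟨eC ≪≫ ?_⟩⟩
    let eW : (FEt.restrict (X.homOfLE hle)).obj (MorphismProperty.Over.mk ⊤ e ⟨inferInstance, inferInstance⟩) ≅ W :=
      MorphismProperty.Over.isoMk het.isoPullback.symm het.isoPullback_inv_snd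
    exact (FEt.restrict ρU).mapIso eW.symm ≪≫
      (MorphismProperty.Over.pullbackComp (P := FEt.prop.{u}) (Q := ⊤) ρU (X.homOfLE hle) ρ hρρ.symm).symm.app _
  obtain ⟨B, Z, h, inE, hηB, hh1, hh2, hpb⟩ := exists_extend_step_of_extends G η.1 hηG hgen e hstep
  refine hmax (G ⊔ B) ⟨hle.trans le_sup_left, Z, h, t ≫ inE, hh1, hh2, ?_⟩
    (lt_of_le_of_ne le_sup_left fun hEq => hηG (hEq.ge (Or.inr hηB)))
  have := het.paste_horiz hpb
  rwa [Scheme.homOfLE_homOfLE] at this

end Groth.Agent.RootExt25
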