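import Groth.Agent.Lib.RootExt25.Special
import Groth.Agent.Lib.RootExt25.NormalFF
import Groth.Agent.Lib.RelPure25.GlueLocal

/-!
Galois covers of the generic fibre of a smooth curve extend after extracting a root of the uniformizer.
-/

set_option autoImplicit false
set_option linter.style.haveILetI false
set_option backward.isDefEq.respectTransparency false

universe u

open CategoryTheory CategoryTheory.Limits AlgebraicGeometry IsLocalRing

noncomputable section

namespace Groth.Agent.RootExt25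

open Polynomial in
set_option maxHeartbeats 1600000 in
theorem exists_extension_after_root
    (V K : Type u) [CommRing V] [IsDomain V] [IsDiscreteValuationRing V] [Field K] [Algebra V K]
    [IsFractionRing V K] (ϖ : V) (hϖ : Irreducible ϖ) (n : ℕ) (hn : IsUnit (n : V))
    {X : Scheme.{u}} (f : X ⟶ Spec (CommRingCat.of V)) [Smooth f] [IrreducibleSpace ↥X]
    (Xt : FEt.Cat (pullback f (Spec.map (CommRingCat.ofHom (algebraMap V K))))) [ConnectedSpace ↥Xt.left]
    (hgal : ∀ (Ω : Type u) [Field Ω] [IsAlgClosed Ω]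
      (ξ : Spec (CommRingCat.of Ω) ⟶ pullback f (Spec.map (CommRingCat.ofHom (algebraMap V K))))
      (s s' : FEt.fiberObj ξ Xt), ∃ σ : Aut Xt, (FEt.fiber ξ).map σ.hom s = s')
    (hdeg : Nat.card (Aut Xt) = n) :
    ∃ Y₁ : FEt.Cat (pullback f (Spec.map (CommRingCat.ofHom
        (algebraMap V (AdjoinRoot (Polynomial.X ^ n - Polynomial.C ϖ)))))),
      Nonempty ((FEt.restrict (pullback.snd
          (pullback.fst f (Spec.map (CommRingCat.ofHom (algebraMap V K))))
          (pullback.fst f (Spec.map (CommRingCat.ofHom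
            (algebraMap V (AdjoinRoot (Polynomial.X ^ n - Polynomial.C ϖ)))))))).obj Y₁ ≅
        (FEt.restrict (pullback.fst
          (pullback.fst f (Spec.map (CommRingCat.ofHom (algebraMap V K))))
          (pullback.fst f (Spec.map (CommRingCat.ofHom
            (algebraMap V (AdjoinRoot (Polynomial.X ^ n - Polynomial.C ϖ)))))))).obj Xt) := by
  have hn0 : 0 < n := Nat.pos_of_ne_zero fun h => by
    subst h; rw [Nat.cast_zero] at hn; exact not_isUnit_zero hn
  obtain ⟨_, _, hinjR, hlocR, -, -⟩ := EtRamBC29.exists_root_dvr ϖ hϖ n hn0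
  let R := AdjoinRoot (Polynomial.X ^ n - Polynomial.C ϖ)
  haveI : Module.Free V R := (monic_X_pow_sub_C _ hn0.ne').free_adjoinRoot
  let gK := Spec.map (CommRingCat.ofHom (algebraMap V K))
  let gR := Spec.map (CommRingCat.ofHom (algebraMap V R))
  haveI : Flat gR := (HasRingHomProperty.Spec_iff (P := @Flat)).2
    (RingHom.flat_algebraMap_iff.2 inferInstance)
  haveI : IsOpenImmersion gK := isOpenImmersion_specMap_fractionRing V K
  let i := pullback.fst f gK
  let p := pullback.fst f gR
  let f₁ := pullback.snd f gR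
  haveI : IsOpenImmersion i := MorphismProperty.pullback_fst f gK inferInstance
  haveI : Smooth f₁ := MorphismProperty.pullback_snd f gR inferInstance
  haveI : Flat p := MorphismProperty.pullback_fst f gR inferInstance
  let j := pullback.snd i p
  haveI : IsOpenImmersion j := MorphismProperty.pullback_snd i p inferInstance
  let X₁ := pullback f gR
  haveI : IsLocallyNoetherian X₁ := LocallyOfFiniteType.isLocallyNoetherian f₁
  haveI : IsLocallyNoetherian X := LocallyOfFiniteType.isLocallyNoetherian f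
  have hXn : Pi1.IsNormalScheme X := NormalExt19.isNormalScheme_of_smooth f (isNormalScheme_spec V)
  let U₁ : X₁.Opens := j.opensRange
  have hmem : ∀ x : X₁, x ∈ U₁ ↔ f₁ x ≠ closedPoint R := by
    intro x
    show x ∈ Set.range (pullback.snd i p) ↔ _
    rw [Scheme.Pullback.range_snd, Set.mem_preimage, Scheme.Pullback.range_fst, Set.mem_preimage,
      ← Scheme.Hom.comp_apply, pullback.condition, Scheme.Hom.comp_apply,
      mem_range_specMap_fractionRing]
    refine not_congr ⟨fun h => ?_, fun h => ?_⟩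
    · have h1 : Ideal.comap (algebraMap V R) (f₁ x : PrimeSpectrum R).asIdeal = maximalIdeal V :=
        congrArg PrimeSpectrum.asIdeal h
      refine PrimeSpectrum.ext (IsLocalRing.eq_maximalIdeal (Ideal.IsPrime.isMaximal (PrimeSpectrum.isPrime _) ?_))
      intro h0
      rw [h0, Ideal.comap_bot_of_injective _ hinjR] at h1
      exact IsDiscreteValuationRing.not_a_field V h1.symm
    · show gR (f₁ x) = _
      rw [h]
      exact IsLocalRing.comap_closedPoint (algebraMap V R)
  let eU := Scheme.Hom.isoOpensRange j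
  have heU : eU.inv ≫ j = U₁.ι := by simp [eU, U₁]
  let q := pullback.fst i p
  let W' : FEt.Cat (U₁ : Scheme.{u}) := (FEt.restrict (eU.inv ≫ q)).obj Xt
  have hX₁ : Pi1.IsNormalScheme X₁ := NormalExt19.isNormalScheme_of_smooth f₁ (isNormalScheme_spec R)
  have hgens : ∀ V' : X₁.Opens, (FEt.restrict (V'.ι ⁻¹ᵁ U₁).ι).Full ∧ (FEt.restrict (V'.ι ⁻¹ᵁ U₁).ι).Faithful := by
    intro V'
    have hV' : Pi1.IsNormalScheme (V' : Scheme.{u}) := NormalExt19.isNormalScheme_of_smooth V'.ι hX₁
    refine fullyFaithful_restrict_of_normal hV' _ fun z => ?_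
    show V'.ι _ ∈ U₁
    rw [hmem, ← Scheme.Hom.comp_apply, Disc25.map_gen _ (V'.ι ≫ f₁), genericPoint_eq_bot_of_affine]
    intro h
    exact IsDiscreteValuationRing.not_a_field R (congrArg PrimeSpectrum.asIdeal h).symm
  obtain ⟨Y, ⟨eY⟩⟩ := RelPure25.exists_extension_of_basis U₁ (fun V' => IsAffineOpen V')
    X₁.isBasis_affineOpens hgens W' (fun V' hV' => by
    haveI : IsAffine (V' : Scheme.{u}) := hV'
    haveI : IsNoetherian (V' : Scheme.{u}) := {}
    have hfib : ∀ x : (V' : Scheme.{u}), x ∉ V'.ι ⁻¹ᵁ U₁ → f₁ (V'.ι x) = closedPoint R := fun x hx => by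
      by_contra h
      exact hx ((hmem _).2 h)
    have hpur : ∀ x : (V' : Scheme.{u}), x ∉ V'.ι ⁻¹ᵁ U₁ → 1 ≤ ringKrullDim (CInt.fiberStalk f₁ (V'.ι x)) →
        FEt.PurityHolds ((V' : Scheme.{u}).presheaf.stalk x) := fun x hx hd => by
      refine RelPure25.purityHolds_stalk_opens V' x (RelPure25.purityHolds_stalk_of_smooth f₁ _ ?_ hd)
      rw [hfib x hx]
      exact one_le_depth_stalk_closedPoint R
    refine exists_extension_of_local _ _ (fun x hx => ?_) (fun x hx hnp y hyx hne => ?_)
    · by_cases hd : 1 ≤ ringKrullDim (CInt.fiberStalk f₁ (V'.ι x))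
      · exact Or.inl (hpur x hx hd)
      right
      intro ρ hρ
      let S := (V' : Scheme.{u}).presheaf.stalk x
      let a : Spec S ⟶ X₁ := (V' : Scheme.{u}).fromSpecStalk x ≫ V'.ι
      have hax : a (closedPoint S) = V'.ι x := by
        show V'.ι ((V' : Scheme.{u}).fromSpecStalk x (closedPoint S)) = _
        rw [Scheme.fromSpecStalk_closedPoint]
      have hfx : f ((a ≫ p) (closedPoint S)) = closedPoint V := by
        rw [Scheme.Hom.comp_apply, hax, ← Scheme.Hom.comp_apply, pullback.condition, Scheme.Hom.comp_apply,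
          show f₁ (V'.ι x) = closedPoint R from hfib x hx]
        exact IsLocalRing.comap_closedPoint (algebraMap V R)
      have hdim : ringKrullDim (X.presheaf.stalk ((a ≫ p) (closedPoint S))) ≤ 1 := by
        rw [Scheme.Hom.comp_apply, hax]
        exact (RelPure25.dim_le_of_flat p _).trans (dim_le_one_of_fibre_zero R f₁ _ (hfib x hx) hd)
      obtain ⟨_, _, hmax⟩ := isDVR_stalk_of_dim_le_one V f hXn ϖ hϖ _ hfx hdim
      let b := ρ ≫ (V'.ι ∣_ U₁) ≫ eU.inv
      have hb : b ≫ pullback.snd i p = (FEt.puncturedSpec S).ι ≫ a := by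
        show (ρ ≫ (V'.ι ∣_ U₁) ≫ eU.inv) ≫ j = _
        rw [Category.assoc, Category.assoc, heU, morphismRestrict_ι, ← Category.assoc, hρ, Category.assoc]
      obtain ⟨C, ⟨eC⟩⟩ := exists_extension_point V K ϖ hϖ n hn f Xt hgal hdeg S (FEt.puncturedSpec S).ι a b hb hmax
      refine ⟨C, ⟨eC ≪≫ ?_⟩⟩
      exact ((FEt.restrict ρ).mapIso (compIso (V'.ι ∣_ U₁) (eU.inv ≫ q) _ rfl Xt) ≪≫
        compIso ρ _ (b ≫ q) (by simp [b]) Xt).symm
    · by_contra hy
      refine hnp (hpur x hx (one_le_dim_fiberStalk_of_specializes f₁ (hyx.map V'.ι.continuous) ?_ ?_))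
      · exact fun h => hne (V'.ι.isOpenEmbedding.injective h)
      · rw [hfib x hx, hfib y hy])
  refine ⟨Y, ⟨?_⟩⟩
  exact (compIso eU.hom U₁.ι j (by rw [← heU, Iso.hom_inv_id_assoc]) Y).symm ≪≫
    (FEt.restrict eU.hom).mapIso eY ≪≫ compIso eU.hom (eU.inv ≫ q) q (Iso.hom_inv_id_assoc _ _) Xt

end Groth.Agent.RootExt25
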