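import Groth.Agent.Lib.RootExt25.Point
import Groth.Agent.Lib.RelPure25.Stalk
import Groth.Agent.Lib.RelPure25.CodimMain
import Groth.Agent.Lib.RamSam27.Normal
import Mathlib.RingTheory.DedekindDomain.PID

/-!
Points of the special fibre over a discrete valuation ring.
-/

set_option autoImplicit false
set_option linter.style.haveILetI false
set_option backward.isDefEq.respectTransparency false

universe u

open CategoryTheory CategoryTheory.Limits AlgebraicGeometry IsLocalRing

noncomputable section

namespace Groth.Agent.RootExt25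

variable (R : Type u) [CommRing R] [IsLocalRing R]

/-- The stalk at the closed point of the spectrum of a local ring. -/
theorem nonempty_stalkClosedEquiv :
    Nonempty (R ≃+* (Spec (CommRingCat.of R)).presheaf.stalk (closedPoint R)) := by
  haveI : IsLocalization.AtPrime ((Spec.structureSheaf R).presheaf.stalk (closedPoint R)) (closedPoint R).asIdeal :=
    StructureSheaf.IsLocalization.to_stalk R (closedPoint R)
  have e₀ : R ≃+* (Spec.structureSheaf R).presheaf.stalk (closedPoint R) :=
    (IsLocalization.atUnits R (closedPoint R).asIdeal.primeCompl fun x hx => by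
      rw [IsUnit.mem_submonoid_iff]
      simpa [closedPoint] using hx).toRingEquiv
  exact ⟨e₀⟩

variable [IsDomain R] [IsDiscreteValuationRing R]

theorem ringKrullDim_stalk_closedPoint :
    ringKrullDim ((Spec (CommRingCat.of R)).presheaf.stalk (closedPoint R)) = 1 := by
  obtain ⟨e⟩ := nonempty_stalkClosedEquiv R
  rw [← ringKrullDim_eq_of_ringEquiv e]
  exact IsPrincipalIdealRing.ringKrullDim_eq_one _ (IsDiscreteValuationRing.not_isField R)

theorem one_le_depth_stalk_closedPoint :
    (1 : ℕ∞) ≤ LocCoh.depth ((Spec (CommRingCat.of R)).presheaf.stalk (closedPoint R))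
      ((Spec (CommRingCat.of R)).presheaf.stalk (closedPoint R)) := by
  rw [← RelPure25.depth_closedPoint R]
  exact RamSam27.one_le_depth_of_regular (IsDiscreteValuationRing.not_isField R)

variable {X : Scheme.{u}} (f : X ⟶ Spec (CommRingCat.of R))

theorem dim_le_one_of_fibre_zero [Smooth f] (x : X) (hx : f x = closedPoint R)
    (h : ¬ 1 ≤ ringKrullDim (CInt.fiberStalk f x)) : ringKrullDim (X.presheaf.stalk x) ≤ 1 := by
  haveI : IsLocallyNoetherian X := LocallyOfFiniteType.isLocallyNoetherian f
  have h1 : ringKrullDim ((Spec (CommRingCat.of R)).presheaf.stalk (f x)) = 1 := by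
    rw [hx]; exact ringKrullDim_stalk_closedPoint R
  rw [(FlatDepth.stalk_invariants f x).2, h1]
  rcases le_or_gt (ringKrullDim (CInt.fiberStalk f x)) 0 with h0 | h0
  · exact (add_le_add le_rfl h0).trans (by simp)
  · exact absurd (by simpa using (ENat.WithBot.add_one_le_iff (n := 0)).2 h0) h

theorem isDVR_stalk_of_dim_le_one [Smooth f] (hX : Pi1.IsNormalScheme X) (ϖ : R) (hϖ : Irreducible ϖ) (ξ : X)
    (hξ : f ξ = closedPoint R) (hd : ringKrullDim (X.presheaf.stalk ξ) ≤ 1) :
    ∃ (_ : IsDomain (X.presheaf.stalk ξ)) (_ : IsDiscreteValuationRing (X.presheaf.stalk ξ)),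
      maximalIdeal (X.presheaf.stalk ξ) = Ideal.span {(Spec.preimage (X.fromSpecStalk ξ ≫ f)).hom ϖ} := by
  haveI : IsLocallyNoetherian X := LocallyOfFiniteType.isLocallyNoetherian f
  haveI := (hX ξ).1
  have h1 : ringKrullDim ((Spec (CommRingCat.of R)).presheaf.stalk (f ξ)) = 1 := by
    rw [hξ]; exact ringKrullDim_stalk_closedPoint R
  rw [(FlatDepth.stalk_invariants f ξ).2, h1] at hd
  obtain ⟨e⟩ := FlatDepth.nonempty_fiberStalkEquiv f ξ
  haveI : Smooth (f.fiberToSpecResidueField (f ξ)) := MorphismProperty.pullback_snd _ _ inferInstance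
  haveI : IsRegularLocalRing (CInt.fiberStalk f ξ) :=
    SmoothReg17.isRegularLocalRing_stalk (f.fiberToSpecResidueField (f ξ)) (f.asFiber ξ)
  have hF : IsField (CInt.fiberStalk f ξ) := by
    haveI := RegLoc.isDomain (CInt.fiberStalk f ξ)
    rw [IsLocalRing.isField_iff_maximalIdeal_eq, ← Submodule.spanFinrank_eq_zero_iff_eq_bot (IsNoetherian.noetherian _)]
    have h2 : ((maximalIdeal (CInt.fiberStalk f ξ)).spanFinrank : WithBot ℕ∞) = ringKrullDim (CInt.fiberStalk f ξ) :=
      IsRegularLocalRing.spanFinrank_maximalIdeal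
    rw [← h2] at hd
    have h3 : (1 + (maximalIdeal (CInt.fiberStalk f ξ)).spanFinrank : ℕ) ≤ 1 := by exact_mod_cast hd
    omega
  let α := Spec.preimage (X.fromSpecStalk ξ ≫ f)
  let J := (maximalIdeal ((Spec (CommRingCat.of R)).presheaf.stalk (f ξ))).map (f.stalkMap ξ).hom
  have hJmax : J.IsMaximal := Ideal.Quotient.maximal_of_isField J (e.toMulEquiv.isField hF)
  have hm : maximalIdeal (X.presheaf.stalk ξ) = Ideal.span {α.hom ϖ} := by
    rw [← IsLocalRing.eq_maximalIdeal hJmax]
    let q : PrimeSpectrum R := f ξ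
    letI : Algebra R ((Spec (CommRingCat.of R)).presheaf.stalk (f ξ)) := StructureSheaf.stalkAlgebra (R := R) q
    haveI : IsLocalization.AtPrime ((Spec (CommRingCat.of R)).presheaf.stalk (f ξ)) q.asIdeal :=
      StructureSheaf.IsLocalization.to_stalk R q
    have hq : q.asIdeal = Ideal.span {ϖ} :=
      (congrArg PrimeSpectrum.asIdeal hξ).trans ((IsDiscreteValuationRing.irreducible_iff_uniformizer ϖ).1 hϖ)
    have hms : maximalIdeal ((Spec (CommRingCat.of R)).presheaf.stalk (f ξ)) =
        Ideal.span {algebraMap R _ ϖ} := by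
      rw [← IsLocalization.AtPrime.map_eq_maximalIdeal q.asIdeal, hq, Ideal.map_span, Set.image_singleton]
    have hα : α = (Spec.preimage ((Spec (CommRingCat.of R)).fromSpecStalk (f ξ))) ≫ f.stalkMap ξ := by
      refine Spec.map_injective ?_
      rw [Spec.map_comp, Spec.map_preimage, Spec.map_preimage, Scheme.SpecMap_stalkMap_fromSpecStalk]
    have hto : Spec.preimage ((Spec (CommRingCat.of R)).fromSpecStalk (f ξ)) = StructureSheaf.toStalk R q := by
      refine Spec.map_injective ?_
      rw [Spec.map_preimage]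
      exact Spec.fromSpecStalk_eq' (R := CommRingCat.of R) q
    show Ideal.map _ _ = _
    rw [hms, Ideal.map_span, Set.image_singleton, hα, hto]
    rfl
  have hne : ¬ IsField (X.presheaf.stalk ξ) := by
    intro h
    have h5 := ringKrullDim_eq_zero_of_isField h
    rw [(FlatDepth.stalk_invariants f ξ).2, h1, ringKrullDim_eq_zero_of_isField hF] at h5
    exact absurd h5 (by simp)
  have hp : (maximalIdeal (X.presheaf.stalk ξ)).IsPrincipal := ⟨⟨α.hom ϖ, hm⟩⟩
  exact ⟨inferInstance, ((IsDiscreteValuationRing.TFAE _ hne).out 0 4).2 hp, hm⟩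

/-- A point of a fibre with a proper generalisation in it has positive fibre dimension. -/
theorem one_le_dim_fiberStalk_of_specializes {Y S : Scheme.{u}} (g : Y ⟶ S) {x y : Y} (hyx : y ⤳ x) (hne : y ≠ x)
    (h : g y = g x) : 1 ≤ ringKrullDim (CInt.fiberStalk g x) := by
  obtain ⟨z, hz⟩ : y ∈ Set.range (g.fiberι (g x)) := by rw [Scheme.Hom.range_fiberι]; exact h
  show 1 ≤ ringKrullDim ((g.fiber (g x)).presheaf.stalk (g.asFiber x))
  rw [ringKrullDim_stalk_eq_coheight]
  have hs : z ⤳ g.asFiber x := (g.fiberι (g x)).isEmbedding.isInducing.specializes_iff.1 (by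
    rw [hz, Scheme.Hom.fiberι_asFiber]; exact hyx)
  have hne' : z ≠ g.asFiber x := fun hh => hne (by rw [← hz, hh, Scheme.Hom.fiberι_asFiber])
  have h1 : g.asFiber x < z := lt_iff_le_not_ge.2 ⟨hs, fun hh => hne' (hs.antisymm hh).eq⟩
  exact_mod_cast Order.one_le_iff_pos.2 (Order.coheight_pos.2 (fun hmax => not_le_of_gt h1 (hmax hs)))

end Groth.Agent.RootExt25
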